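/-
Ruiz–Viruel realisers: the interface.  `Dat p a b`: `a`, `b` generate an extraspecial group of order
`p ^ 3` and exponent `p` which is a Sylow `p`-subgroup.  `Tri a b`: three pairwise non-commuting elements
of it are fused into its centre.
-/
import Mathlib

set_option autoImplicit false

open scoped commutatorElement

namespace CL.RV

variable {G : Type*} [Group G]

/-- generators of a Sylow subgroup `p ^ (1 + 2)` of exponent `p` -/
structure Dat (p : ℕ) (a b : G) : Prop where
  pa : a ^ p = 1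
  pb : b ^ p = 1
  ne : ⁅a, b⁆ ≠ 1
  ca : Commute a ⁅a, b⁆
  cb : Commute b ⁅a, b⁆
  syl : ¬ p ^ 4 ∣ Nat.card G

/-- `t` is conjugate to a power of `⁅a, b⁆` -/
def Fz (a b t : G) : Prop := ∃ c ∈ Subgroup.zpowers ⁅a, b⁆, IsConj c t

/-- three pairwise non-commuting elements of `⟨a, b⟩` are fused into the centre -/
def Tri (a b : G) : Prop :=
  ∃ x ∈ Subgroup.closure {a, b}, ∃ y ∈ Subgroup.closure {a, b}, ∃ w ∈ Subgroup.closure {a, b},
    ¬ Commute x y ∧ ¬ Commute x w ∧ ¬ Commute y w ∧ Fz a b x ∧ Fz a b y ∧ Fz a b w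

end CL.RV
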