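/- The Thompson group at `p = 5`. -/
import Cfsg.Agent.FUS.RV.Defs
import Cfsg.Agent.SPOR.ThG

set_option autoImplicit false
set_option Elab.async false
set_option maxRecDepth 100000

open scoped commutatorElement

namespace CL.RV

/-- from an element `w` centralising `x`, and a conjugate `a` of `x` -/
theorem dat_tri5 {G : Type*} [Group G] {x a w c : G} (hc : a = c * x * c⁻¹) (hw : Commute w x)
    (h5 : x ^ 5 = 1) (h1 : x ≠ 1) (ha : a * x = x * a)
    (hab : a * (w * a * w⁻¹) = x ^ 3 * ((w * a * w⁻¹) * a))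
    (hd : a * (w * a * w⁻¹) * (w * (w * a * w⁻¹) * w⁻¹) = x ^ 4) (hs : ¬ 5 ^ 4 ∣ Nat.card G) :
    Dat 5 a (w * a * w⁻¹) ∧ Tri a (w * a * w⁻¹) := by
  set b := w * a * w⁻¹ with hb
  set d := w * b * w⁻¹ with hd'
  have hz : ⁅a, b⁆ = x ^ 3 := by
    rw [commutatorElement_def, hab]; group
  have ca : Commute a x := ha
  have cj : ∀ y : G, Commute y x → Commute (w * y * w⁻¹) x := fun y hy =>
    (hw.mul_left hy).mul_left hw.inv_left
  have cb : Commute b x := cj a ca
  have x2 : (x ^ 3) ^ 2 = x := by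
    rw [← pow_mul, show 3 * 2 = 5 + 1 from rfl, pow_succ, h5, one_mul]
  have x3 : (x ^ 3) ^ 3 = x ^ 4 := by
    rw [← pow_mul, show 3 * 3 = 5 + 4 from rfl, pow_add, h5, one_mul]
  have ne : ⁅a, b⁆ ≠ 1 := fun e => h1 (by rw [← x2, ← hz, e, one_pow])
  have nab : ¬ Commute a b := fun e => ne (commutatorElement_eq_one_iff_commute.2 e)
  have pa : a ^ 5 = 1 := by rw [hc, conj_pow, h5, mul_one, mul_inv_cancel]
  have xz : x ∈ Subgroup.zpowers ⁅a, b⁆ := by
    rw [hz]; exact ⟨2, by simpa [zpow_ofNat] using x2⟩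
  have ma : a ∈ Subgroup.closure ({a, b} : Set G) := Subgroup.subset_closure (by simp)
  have mb : b ∈ Subgroup.closure ({a, b} : Set G) := Subgroup.subset_closure (by simp)
  have ed : d = b⁻¹ * a⁻¹ * x ^ 4 := by rw [← hd]; group
  have ia : IsConj x a := isConj_iff.2 ⟨c, hc.symm⟩
  have ib : IsConj x b := ia.trans (isConj_iff.2 ⟨w, rfl⟩)
  refine ⟨⟨pa, by rw [hb, conj_pow, pa, mul_one, mul_inv_cancel], ne, hz ▸ ca.pow_right 3,
    hz ▸ cb.pow_right 3, hs⟩, a, ma, b, mb, d, ?_, nab, fun e => nab ?_, fun e => nab ?_,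
    ⟨x, xz, ia⟩, ⟨x, xz, ib⟩, x, xz, ib.trans (isConj_iff.2 ⟨w, rfl⟩)⟩
  · rw [ed, ← x3, ← hz]
    exact mul_mem (mul_mem (inv_mem mb) (inv_mem ma)) (pow_mem
      (mul_mem (mul_mem (mul_mem ma mb) (inv_mem ma)) (inv_mem mb)) 3)
  · have : b⁻¹ = d * (x ^ 4)⁻¹ * a := by rw [ed]; group
    refine Commute.inv_right_iff.1 ?_
    rw [this]
    exact (e.mul_right (ca.pow_right 4).inv_right).mul_right (Commute.refl a)
  · have h : w * (a * b) * w⁻¹ = w * (b * a) * w⁻¹ := by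
      have := e.eq
      rw [hd'] at this
      calc w * (a * b) * w⁻¹ = (w * a * w⁻¹) * (w * b * w⁻¹) := by group
        _ = (w * b * w⁻¹) * (w * a * w⁻¹) := this
        _ = _ := by group
    exact mul_left_cancel (mul_right_cancel h)

namespace Th5

open CL.CE CL.K CL.Net CL.ThG

/-- an element of order 15 -/
def w : List ℕ := [5, 9, 6, 4, 3, 10, 5]
/-- its inverse -/
def wi : List ℕ := [6, 9, 3, 4, 5, 10, 6]
/-- the conjugating element -/
def c : List ℕ := [2, 3, 10, 1, 9, 1, 2, 3, 1, 10, 1, 8, 9, 3, 5, 4, 3, 5, 4]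
/-- its inverse -/
def ci : List ℕ := [4, 6, 3, 4, 6, 3, 10, 7, 1, 9, 1, 3, 2, 1, 10, 1, 9, 3, 2]
/-- the central element -/
def X : List ℕ := w ++ w ++ w
/-- first generator -/
def Aw : List ℕ := c ++ X ++ ci
/-- second generator -/
def B : List ℕ := w ++ Aw ++ wi
/-- third element -/
def D : List ℕ := w ++ B ++ wi
/-- the relators -/
noncomputable def R : List (List ℕ) := [X ++ X ++ X ++ X ++ X, Aw ++ X ++ invw ivM (X ++ Aw),
  Aw ++ B ++ invw ivM (X ++ X ++ X ++ (B ++ Aw)), Aw ++ B ++ D ++ invw ivM (X ++ X ++ X ++ X)]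

theorem run : (∀ r ∈ R, ev gM r = 1) ∧ ∀ v ∈ [X], ev gM v ≠ 1 :=
  ltrsM.of_run codeM (prog := [(2, 3), (11, 2), (5, 7), (0, 7), (8, 10), (0, 8), (9, 8), (8, 16),
    (0, 9), (10, 7), (20, 15), (14, 0), (16, 0), (19, 0), (23, 0), (20, 0), (26, 22), (22, 0), (22, 0),
    (22, 0), (29, 0), (27, 0), (18, 18), (32, 0), (32, 0), (15, 0), (25, 0), (18, 0), (38, 0), (28, 0),
    (39, 23), (21, 0), (25, 0), (24, 0), (41, 0), (45, 0), (30, 0), (31, 0), (22, 22), (0, 23), (10, 0),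
    (0, 3), (26, 0), (0, 21), (28, 0), (0, 23), (6, 6), (0, 7), (1, 1), (0, 9), (8, 10), (11, 9),
    (10, 8), (9, 11), (6, 0), (2, 9)])
    (es := [(6, 99999), (5, 4), (3, 1), (0, 7)]) (ns := [16]) (by decide +kernel) (L := 11)
    (by decide +kernel)

theorem rho_ev (v : List ℕ) (hv : ltAll 11 v = true) : ρ (ev g v) = ev gM v := by
  rw [map_ev]
  exact ev_congr fun a ha => (ρ_apply a (ltAll_spec hv a ha)).trans
    (subst_ltrs_of_lt _ (ltAll_spec hv a ha))

theorem rel (u v : List ℕ) (h : u ++ invw ivM v ∈ R) (hl : ltAll 11 (u ++ invw ivM v) = true) :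
    ev g u = ev g v := by
  have := run.1 _ h
  rw [← rho_ev _ hl, map_eq_one_iff _ faithful.2, ev_append, ev_invw (iv := ivM) fun a _ => presG0.inv a,
    mul_inv_eq_one] at this
  exact this

theorem ev_wi : ev g wi = (ev g w)⁻¹ :=
  (congrArg (ev g) (eq_of_leq (by decide +kernel))).trans (ev_invw fun a _ => presG0.inv a)

theorem ev_ci : ev g ci = (ev g c)⁻¹ :=
  (congrArg (ev g) (eq_of_leq (by decide +kernel))).trans (ev_invw fun a _ => presG0.inv a)

end Th5

open CL.CE CL.K CL.Net CL.ThG Th5 in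
theorem real5 : ∃ (G : Type) (_ : Group G) (_ : Finite G) (a b : G), Dat 5 a b ∧ Tri a b := by
  have eA : ev g Aw = ev g c * ev g X * (ev g c)⁻¹ := by rw [Aw, ev_append, ev_append, ev_ci]
  have eB : ev g B = ev g w * ev g Aw * (ev g w)⁻¹ := by rw [B, ev_append, ev_append, ev_wi]
  have eD : ev g D = ev g w * ev g B * (ev g w)⁻¹ := by rw [D, ev_append, ev_append, ev_wi]
  have eX : ev g X = ev g w ^ 3 := by rw [X, ev_append, ev_append, pow_three, mul_assoc]
  have h5 := (map_eq_one_iff _ faithful.2).1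
    ((rho_ev _ (by decide +kernel)).trans (run.1 (X ++ X ++ X ++ X ++ X) (by simp [R])))
  have h1 := rel (Aw ++ X) (X ++ Aw) (by simp [R]) (by decide +kernel)
  have h2 := rel (Aw ++ B) (X ++ X ++ X ++ (B ++ Aw)) (by simp [R]) (by decide +kernel)
  have h3 := rel (Aw ++ B ++ D) (X ++ X ++ X ++ X) (by simp [R]) (by decide +kernel)
  simp only [ev_append] at h5 h1 h2 h3
  rw [eD, eB] at h3
  rw [eB] at h2
  refine ⟨Cfsg.Spor.Th, inferInstance, inferInstance, _, _,
    dat_tri5 (x := ev g X) (w := ev g w) eA (eX ▸ (Commute.refl _).pow_right 3) ?_ (fun e => ?_) h1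
      ?_ ?_ (by rw [card]; norm_num)⟩
  · rw [← h5]; simp only [pow_succ, pow_zero, one_mul]
  · exact run.2 X (by simp) (by rw [← rho_ev _ (by decide +kernel), e, map_one])
  · rw [h2]; simp only [pow_succ, pow_zero, one_mul]
  · rw [h3]; simp only [pow_succ, pow_zero, one_mul]

end CL.RV
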