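/-
The configuration in a group with an involution centraliser of shape `2 ^ (1 + 24) . Co1`.
-/
import Cfsg.Agent.FUS.RV.MonC
import Cfsg.Agent.FUS.RV.MonA1
import Cfsg.Agent.SPOR.MO.Glue2

set_option autoImplicit false

namespace CL.RV

open Cfsg CL.Leech CL.MT CL.Co1T Subgroup CL.Fus

variable {G : Type*} [Group G] [Finite G] {z : G} {Q : Subgroup G} {R : leechLattice → G → Prop}
  {A : Co0 → G → Prop} (h : MT z Q R A) {xh sh ih jh rh : Co0} (r : Rel xh sh ih jh rh)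

include r in
theorem Rel.not_cen : xh ∉ center Co0 := fun e => by
  have := (κ_eq_iff.2 (r.fpf _ (cong_of_mem_center e (e8 none)))).trans (map_zero κ)
  exact e0_ne ((κ_e8 none).symm.trans this)

include h

omit [Finite G] in
theorem A_pow {k : Co0} {c : G} (hc : A k c) (n : ℕ) : A (k ^ n) (c ^ n) := by
  induction n with
  | zero => simpa using h.A_one (one_mem _)
  | succ n ih => rw [pow_succ, pow_succ]; exact h.A_mul ih hc

omit [Finite G] in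
theorem pow4 {q : G} (hq : q ∈ Q) : q ^ 4 = 1 := by
  rw [show 4 = 2 * 2 from rfl, pow_mul, pow_two q]
  rcases h.lx.sq q hq with e | e <;> rw [e]
  exacts [one_pow 2, by rw [pow_two, h.lx.z_sq]]

omit [Finite G] in
theorem mem_Q {k : Co0} {c c' : G} (hc : A k c) (hc' : A k c') : c * c'⁻¹ ∈ Q :=
  (h.A_ker (h.A_mul hc (h.A_inv hc'))).2 (by rw [mul_inv_cancel]; exact one_mem _)

omit [Finite G] in
theorem cz13 : ¬ 13 ^ 2 ∣ Nat.card (centralizer ({z} : Set G)) := by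
  rw [CL.MO.card_cent_of_mt h]; norm_num

include r

omit [Finite G] in
theorem exists_x : ∃ x, A xh x ∧ x ^ 13 = 1 ∧ x ≠ 1 := by
  obtain ⟨c, hc⟩ := h.ex_c xh
  have h1 := pow4 h ((h.A_ker (A_pow h hc 13)).2 (r.xp ▸ one_mem _))
  have h2 : A xh (c ^ 40) := by
    have := A_pow h hc 40
    rwa [show 40 = 13 * 3 + 1 from rfl, pow_succ xh, pow_mul, r.xp, one_pow, one_mul] at this
  exact ⟨_, h2, by rw [← pow_mul, show 40 * 13 = 13 * 4 * 10 from rfl, pow_mul, pow_mul, h1, one_pow],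
    fun e => r.not_cen ((h.A_ker h2).1 (e ▸ one_mem _))⟩

variable {x : G} (hx : A xh x)
include hx

omit [Finite G] in
theorem fixQ {q : G} (hq : q ∈ Q) (e : q * x = x * q) : q = 1 ∨ q = z := by
  obtain ⟨v, hv⟩ := h.ex_v q hq
  have h1 := h.R_conj hx hv
  rw [← e, mul_inv_cancel_right] at h1
  simpa using (h.R_cong h.R_zero hv).1 (r.fpf v (h.cong_of h1 hv)).symm

theorem lift (xp : x ^ 13 = 1) (x1 : x ≠ 1) {k : Co0} {n : ℕ} (e : k * xh * k⁻¹ = xh ^ n) :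
    ∃ c, A k c ∧ c * x * c⁻¹ = x ^ n := by
  let H : Subgroup G := ⟨⟨⟨{g | ∃ m ∈ zpowers xh, A m g},
    fun ⟨_, a, b⟩ ⟨_, c, d⟩ => ⟨_, mul_mem a c, h.A_mul b d⟩⟩, 1, one_mem _, h.A_one (one_mem _)⟩,
    fun ⟨_, a, b⟩ => ⟨_, inv_mem a, h.A_inv b⟩⟩
  have hH : H ≤ centralizer {z} := fun g ⟨_, _, b⟩ => mem_centralizer_singleton_iff.2 (h.A_comm b)
  have xH : x ∈ H := ⟨_, mem_zpowers _, hx⟩
  obtain ⟨c, hc⟩ := h.ex_c k
  have h1 := h.A_mul (h.A_mul hc hx) (h.A_inv hc)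
  obtain ⟨b, ⟨m, hm, hb⟩, hb'⟩ := (syl_zp xp x1 xH fun d => cz13 h (d.trans (card_dvd_of_le hH))).exists_conj_le
    (C := zpowers (c * x * c⁻¹)) (zpowers_le.2 ⟨_, e ▸ pow_mem (mem_zpowers xh) n, h1⟩)
    (pg13 (by rw [conj_pow, xp]; group))
  obtain ⟨t, rfl⟩ := (mem_zpowers_pz r.xp).1 hm
  have h2 : A k ((pz x t)⁻¹ * b * c) := by
    simpa [pz] using h.A_mul (h.A_mul (h.A_inv (A_pow h hx t.val)) hb) hc
  refine ⟨_, h2, ?_⟩
  have h3 : (pz x t)⁻¹ * b * c * x * ((pz x t)⁻¹ * b * c)⁻¹ * (x ^ n)⁻¹ ∈ zpowers x := by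
    have := mul_mem (mul_mem (inv_mem (pz_mem (mem_zpowers x) t)) (hb' _ (mem_zpowers _)))
      (pz_mem (mem_zpowers x) t)
    exact mul_mem (by simpa [mul_assoc] using this) (inv_mem (pow_mem (mem_zpowers x) n))
  have h4 := pow4 h (mem_Q h (h.A_mul (h.A_mul h2 hx) (h.A_inv h2)) (e ▸ A_pow h hx n))
  obtain ⟨l, hl⟩ := (mem_zpowers_pz xp).1 h3
  rw [← mul_inv_eq_one]
  exact (pow_one _).symm.trans ((pow_gcd_eq_one (m := 4) (n := 13)).2 ⟨h4, hl ▸ pz_pow xp l⟩)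

omit hx in
theorem exists_loc (hB : ∀ k c, k * k = neg1 → A k c → c * c ≠ 1) (c2 : 13 ^ 2 ∣ Nat.card G)
    (c4 : ¬ 13 ^ 4 ∣ Nat.card G)
    (cj : ∀ u x : G, u * u = 1 → x ^ 13 = 1 → x ≠ 1 → u * x * u⁻¹ = x⁻¹ → IsConj z u) :
    ∃ x s i j ρ, Loc z x s i j ρ := by
  obtain ⟨x, hx, xp, x1⟩ := exists_x h r
  have i12 : ∀ {M : Type _} [Group M] {y : M}, y ^ 13 = 1 → y ^ 12 = y⁻¹ := fun e =>
    eq_inv_of_mul_eq_one_left (by rwa [← pow_succ])
  obtain ⟨s, hs, sx⟩ := lift h r hx xp x1 (k := sh) (n := 12) (by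
    rw [eq_inv_of_mul_eq_one_left (show xh ^ 12 * xh = 1 from (pow_succ xh 12).symm.trans r.xp),
      mul_inv_eq_iff_eq_mul]
    nth_rewrite 2 [← r.xs]; group)
  obtain ⟨i, hi, ix⟩ := lift h r hx xp x1 (k := ih) (n := 1) (by rw [r.xi, pow_one, mul_inv_cancel_right])
  obtain ⟨ρ, hρ, ρx⟩ := lift h r hx xp x1 (k := rh) (n := 1) (by rw [r.xr, pow_one, mul_inv_cancel_right])
  rw [i12 xp] at sx
  rw [pow_one, mul_inv_eq_iff_eq_mul] at ix ρx
  have zz := h.lx.z_sq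
  have sq : ∀ {k c}, k * k = neg1 → A k c → c * c * x = x * (c * c) → c * c = z := fun e hc e' =>
    (fixQ h r hx ((h.A_ker (h.A_mul hc hc)).2 (e ▸ neg1_mem_center)) e').resolve_left (hB _ _ e hc)
  have cs : ∀ {k c c'}, A k c → A k c' → c * x * c⁻¹ = c' * x * c'⁻¹ → c = c' ∨ c = c' * z :=
    fun {k c c'} hc hc' e => by
      have h1 : c'⁻¹ * c ∈ Q := by simpa using mem_Q h (h.A_inv hc') (h.A_inv hc)
      refine (fixQ h r hx h1 ?_).imp (fun a => (inv_mul_eq_one.1 a).symm) inv_mul_eq_iff_eq_mul.1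
      calc _ = c'⁻¹ * (c * x * c⁻¹) * c := by group
        _ = _ := by rw [e]; group
  have cx : ∀ {a b : G}, a * x = x * a → b * x = x * b → a * x * a⁻¹ = b * x * b⁻¹ := fun e e' => by
    rw [e, e', mul_inv_cancel_right, mul_inv_cancel_right]
  have hj : A jh (ρ * i * ρ⁻¹) := by simpa [r.ri] using h.A_mul (h.A_mul hρ hi) (h.A_inv hρ)
  have cρ : ∀ {a : G}, Commute a x → Commute (ρ * a * ρ⁻¹) x := fun e =>
    (Commute.mul_left ρx e).mul_left (Commute.inv_left ρx)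
  have jx := cρ ix
  have ii := sq r.ii hi (Commute.mul_left ix ix)
  have ρz : ρ * z * ρ⁻¹ = z := by rw [h.A_comm hρ, mul_inv_cancel_right]
  have ρs : ρ * s * ρ⁻¹ = s ∨ ρ * s * ρ⁻¹ = s * z :=
    cs (by simpa [r.sr] using h.A_mul (h.A_mul hρ hs) (h.A_inv hρ)) hs (by
      calc _ = ρ * (s * (ρ⁻¹ * x * ρ) * s⁻¹) * ρ⁻¹ := by group
        _ = _ := by
          rw [mul_assoc ρ⁻¹, ← ρx, inv_mul_cancel_left, sx, ← conj_inv, ρx, mul_inv_cancel_right])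
  have ρj : ρ * (ρ * i * ρ⁻¹) * ρ⁻¹ = i * (ρ * i * ρ⁻¹) ∨ ρ * (ρ * i * ρ⁻¹) * ρ⁻¹ = i * (ρ * i * ρ⁻¹) * z :=
    cs (by simpa [r.rj] using h.A_mul (h.A_mul hρ hj) (h.A_inv hρ))
      (h.A_center (h.A_mul hi hj) neg1_mem_center) (cx (cρ jx) (Commute.mul_left ix jx))
  have cs' : ∀ {a : G}, a * z = z * a → ρ * s * ρ⁻¹ * a * (ρ * s * ρ⁻¹)⁻¹ = s * a * s⁻¹ := fun {a} e => by
    rcases ρs with b | b <;> rw [b]
    rw [mul_assoc s, ← e]; group
  have st : ∀ {a y : G}, ρ * y * ρ⁻¹ = y → a * z = z * a → s * a * s⁻¹ = a * y →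
      s * (ρ * a * ρ⁻¹) * s⁻¹ = ρ * a * ρ⁻¹ * y := fun {a y} e0 e1 e2 => by
    rw [← cs' (by rw [← ρz, conj_mul, conj_mul, e1]), ← e0, conj_mul, conj_mul, ← e2]
    group
  have sz : s * z * s⁻¹ = z := by rw [h.A_comm hs, mul_inv_cancel_right]
  have si : s * i * s⁻¹ = i := by
    refine (cs (by simpa [r.si] using h.A_mul (h.A_mul hs hi) (h.A_inv hs)) hi ?_).resolve_right fun e => ?_
    · exact cx (Commute.inv_right_iff.1 (sx ▸ (show Commute i x from ix).map (MulAut.conj s))) ix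
    · have e1 := st ρz (h.A_comm hi) e
      have e2 := st ρz (h.A_comm hj) e1
      have e3 : s * (i * (ρ * i * ρ⁻¹)) * s⁻¹ = i * (ρ * i * ρ⁻¹) := by
        rw [← conj_mul, e, e1, h.A_comm hj, mul_assoc, ← mul_assoc z, zz, one_mul]
      refine h.lx.z_ne ?_
      rcases ρj with b | b <;> rw [b] at e2
      · rwa [e3, left_eq_mul] at e2
      · rwa [← conj_mul, e3, sz, left_eq_mul] at e2
  have ss := sq r.ss hs (by
    rw [← mul_inv_eq_iff_eq_mul]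
    calc _ = s * (s * x * s⁻¹) * s⁻¹ := by group
      _ = _ := by rw [sx, ← conj_inv, sx, inv_inv])
  exact ⟨x, s, i, ρ * i * ρ⁻¹, ρ,
    { zz := zz, z1 := h.lx.z_ne, xp := xp, x1 := x1, ii := ii
      jj := by rw [conj_mul, ii, ρz]
      ss := ss
      ij := sq r.ij (h.A_mul hi hj) ((Commute.mul_left ix jx).mul_left (Commute.mul_left ix jx))
      si := mul_inv_eq_iff_eq_mul.1 si
      sj := mul_inv_eq_iff_eq_mul.1 (by simpa using st (y := 1) (by simp) (h.A_comm hi) (by simpa using si))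
      ix := ix, jx := jx, sx := sx, ρi := rfl, ρx := mem_norm_of_comm ρx, ρs := ρs, ρj := ρj, c2 := c2, c4 := c4
      cz := cz13 h
      U := fun t t2 tz tx => by
        obtain ⟨k, hk⟩ := h.ex_g t tz
        refine fixQ h r hx ((h.A_ker hk).2 ?_) tx
        have k2 := (MT.mem_center_iff.1 ((h.A_ker (h.A_mul hk hk)).1 (t2 ▸ one_mem _))).resolve_right
          fun e => hB _ _ e hk t2
        have h1 := (h.A_ker (h.A_mul (h.A_mul hx hk) (h.A_inv (h.A_mul hk hx)))).1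
          (by rw [tx, mul_inv_cancel]; exact one_mem _)
        refine MT.mem_center_iff.2 (pr_eq_one.1 (cen13 k2 (g := pr xh) (orderOf_eq_prime
          (by rw [← map_pow, r.xp, map_one]) fun e => r.not_cen (MT.mem_center_iff.2 (pr_eq_one.1 e))) ?_))
        rw [← map_mul, ← map_mul, ← mul_inv_eq_one, ← map_inv, ← map_mul]
        exact pr_eq_one.2 (MT.mem_center_iff.1 h1)
      cj := cj _ x (by
        rw [mul_assoc, ← mul_assoc i, ← mul_inv_eq_iff_eq_mul.1 si, mul_assoc, ii, ← mul_assoc, ss, zz]) xp x1 (by rw [← sx, mul_assoc s, ix]; group) }⟩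

end CL.RV
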