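/- The Monster at `p = 13`. -/
import Cfsg.Agent.FUS.RV.MonB
import Cfsg.Agent.FUS.RV.MonA3
import Cfsg.Agent.FUS.RV.MonA4
import Cfsg.Agent.SPOR.MR.Inv

set_option autoImplicit false

namespace CL.RV

open CL.MO CL.Gr CL.Leech

theorem real13 : ∃ (G : Type) (_ : Group G) (_ : Finite G) (a b : G), Dat 13 a b ∧ Tri a b := by
  obtain ⟨P⟩ := exists_pk ℝ two_ne_zero
  obtain ⟨x, s, i, j, ρ, h⟩ := exists_loc (mt P) rel (fun k c hk ⟨m, o, a⟩ e => by
      have a2 := a.mul two_ne_zero a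
      rw [hk, ← Subgroup.coe_mul, e, ← mul_one neg1] at a2
      exact MR.not_ov two_ne_zero hk o
        (a2.eq_right two_ne_zero ((Gr.Dat.acts_one two_ne_zero).neg two_ne_zero)))
    (by rw [card_GG]; norm_num) (by rw [card_GG]; norm_num) fun u x u2 xp x1 e => by
      refine (MR.two_classes u2 fun e1 => x1 (eq_one_of_inv xp (by simpa [e1] using e))).resolve_left
        fun hu => ?_
      obtain ⟨n, n1, n6, hn⟩ := (cs P).six u hu _ (conj_mem_DD hu x)
      have h1 : u * (x * u * x⁻¹) = (x ^ 2)⁻¹ := by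
        calc _ = u * x * u⁻¹ * (u * u) * x⁻¹ := by group
          _ = _ := by rw [e, u2]; group
      rw [h1, inv_pow, inv_eq_one, ← pow_mul] at hn
      have := orderOf_dvd_of_pow_eq_one hn
      rw [orderOf_eq_prime xp x1] at this
      omega
  obtain ⟨ρ', S, h', hS⟩ := h.exists_inv
  obtain ⟨v, a, f⟩ := h'.exists_frm hS
  exact ⟨GG P, inferInstance, inferInstance, _, _, f.tri h' hS (f.not_comm h' hS)⟩

end CL.RV
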