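/-
The Ruiz–Viruel theorem for `p ≠ 7`: assembly.
-/
import Cfsg.Agent.FUS.RV.Fus
import Cfsg.Agent.FUS.RV.Cls
import Cfsg.Agent.FUS.RV.L3
import Cfsg.Agent.FUS.RV.Tits
import Cfsg.Agent.FUS.RV.Th
import Cfsg.Agent.FUS.RV.Mon

set_option autoImplicit false

namespace CL.RV

open CL.Fus Cfsg Cfsg.FusionSystem Subgroup H
open scoped commutatorElement

variable {p : ℕ} [Fact p.Prime] {G : Type*} [Group G]

theorem three_of_tri (hp : p ≠ 2) {A : Subgroup G} {a b : A} {ι : H p →* G}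
    (h1 : ι e1 = a) (h2 : ι e2 = b) (h : Tri a b) : (datG ι A).Three := by
  have hm : ∀ x ∈ closure {a, b}, ∃ t, ι t = (x : A) := fun x hx => by
    have : (x : G) ∈ ι.range := by
      rw [range_eq hp, h1, h2]
      have := mem_map_of_mem A.subtype hx
      rwa [MonoidHom.map_closure, Set.image_pair] at this
    exact this
  have hE : ∀ (x : A) (t : H p), ι t = x → (t.x ≠ 0 ∨ t.y ≠ 0) → Fz a b x → ![t.x, t.y] ∈ (datG ι A).E := by
    rintro x t e ht ⟨_, ⟨n, rfl⟩, hc⟩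
    obtain ⟨γ, hγ⟩ := isConj_iff.1 hc
    obtain ⟨c, hc⟩ : ∃ c, (⁅(e1 : H p), (e2 : H p)⁆ ^ n : H p) = ⟨0, 0, c⟩ := by
      have : (⁅(e1 : H p), (e2 : H p)⁆ ^ n : H p) ∈ Zc := zpow_mem (by rw [comm_e]; exact ⟨rfl, rfl⟩) n
      exact ⟨_, H.ext this.1 this.2 rfl⟩
    refine ⟨ne_zero_iff.2 ht, c, t.w, γ, γ.2, ?_⟩
    rw [← hc, map_zpow, map_commutatorElement, h1, h2]
    exact e.trans (congrArg Subtype.val hγ).symm
  obtain ⟨x, hx, y, hy, w, hw, hxy, hxw, hyw, fx, fy, fw⟩ := h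
  obtain ⟨x', ex⟩ := hm x hx
  obtain ⟨y', ey⟩ := hm y hy
  obtain ⟨w', ew⟩ := hm w hw
  have hom : ∀ (x y : A) (s t : H p), ι s = x → ι t = y → ¬ Commute x y → s.x * t.y - s.y * t.x ≠ 0 :=
    fun x y s t es et hn h0 => hn (Subtype.ext (by
      rw [Subgroup.coe_mul, Subgroup.coe_mul, ← es, ← et, ← map_mul, ← map_mul,
        (comm_iff hp).2 (sub_eq_zero.1 h0)]))
  have hne : ∀ s t : H p, s.x * t.y - s.y * t.x ≠ 0 → (s.x ≠ 0 ∨ s.y ≠ 0) ∧ (t.x ≠ 0 ∨ t.y ≠ 0) :=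
    fun s t h => ⟨by by_contra! h0; simp [h0.1, h0.2] at h, by by_contra! h0; simp [h0.1, h0.2] at h⟩
  have o1 := hom _ _ _ _ ex ey hxy
  have o2 := hom _ _ _ _ ex ew hxw
  have o3 := hom _ _ _ _ ey ew hyw
  exact ⟨_, hE x x' ex (hne _ _ o1).1 fx, _, hE y y' ey (hne _ _ o1).2 fy, _, hE w w' ew (hne _ _ o2).2 fw,
    o1, o2, o3⟩

theorem Tri.top {a b : G} (h : Tri a b) : Tri (⟨a, trivial⟩ : (⊤ : Subgroup G)) ⟨b, trivial⟩ := by
  let φ : G →* (⊤ : Subgroup G) := topEquiv.symm.toMonoidHom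
  have hm : ∀ x ∈ closure {a, b}, φ x ∈ closure {φ a, φ b} := fun x hx => by
    have := mem_map_of_mem φ hx
    rwa [MonoidHom.map_closure, Set.image_pair] at this
  have hc : ∀ x y, ¬ Commute x y → ¬ Commute (φ x) (φ y) := fun x y h h' => h (congrArg Subtype.val h'.eq)
  have hf : ∀ x, Fz a b x → Fz (φ a) (φ b) (φ x) := by
    rintro x ⟨_, ⟨n, rfl⟩, hc⟩
    exact ⟨_, ⟨n, by simp only [map_commutatorElement, map_zpow]⟩, φ.map_isConj hc⟩
  obtain ⟨x, hx, y, hy, w, hw, hxy, hxw, hyw, fx, fy, fw⟩ := h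
  exact ⟨_, hm x hx, _, hm y hy, _, hm w hw, hc _ _ hxy, hc _ _ hxw, hc _ _ hyw, hf _ fx, hf _ fy, hf _ fw⟩

theorem datG_lt (hp : p ≠ 2) [Finite G] {N : Subgroup G} [N.Normal] (hN : N ≠ ⊤) {ι : H p →* G}
    (hι : Function.Injective ι) (hA : ι.range ≤ N) (hG : ¬ p ^ 4 ∣ Nat.card G)
    (hc : centralizer {ι e1, ι e2} ≤ N) : (datG ι N).W < (datG ι ⊤).W := by
  refine lt_of_le_of_ne (fun g ⟨γ, _, e⟩ => ⟨γ, trivial, e⟩) fun h => hN ?_
  have hcard : Nat.card (ι.range.subgroupOf N) = p ^ 3 := by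
    rw [Nat.card_congr (subgroupOfEquivOfLe hA).toEquiv, ← Nat.card_congr (MonoidHom.ofInjective hι).toEquiv,
      H.card]
  let P : Sylow p N := (IsPGroup.of_card hcard).toSylow fun hd => hG (by
    refine Dvd.dvd.trans ?_ N.card_subgroup_dvd_card
    rw [← (ι.range.subgroupOf N).card_mul_index, hcard, pow_succ]
    exact Nat.mul_dvd_mul_left _ hd)
  have hF := Sylow.normalizer_sup_eq_top P
  have hP : (P : Subgroup N).map N.subtype = ι.range := map_subgroupOf_eq_of_le hA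
  rw [hP] at hF
  rw [eq_top_iff, ← hF]
  refine sup_le (fun g hg => ?_) le_rfl
  have h1 : ∀ a, ∃ b, ι b = g * ι a * g⁻¹ := fun a => (mem_normalizer_iff.1 hg _).1 ⟨a, rfl⟩
  choose f hf using h1
  obtain ⟨x, s, e⟩ := exists_aff hp (MonoidHom.mk' f fun a b => hι (by simp [hf])) fun a b h => hι (by
    have : ι (f a) = ι (f b) := congrArg ι h
    simpa [hf] using this)
  have hx : x ∈ (datG ι ⊤).W := ⟨(ι s)⁻¹ * g, trivial, fun a => by
    have := hf a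
    rw [show f a = _ from e a, map_mul, map_mul, map_inv] at this
    rw [mul_assoc, mul_assoc, mul_inv_rev, ← mul_assoc (ι a), ← mul_assoc g, ← mul_assoc g, ← this]; group⟩
  obtain ⟨γ, hγ, e'⟩ := h.ge hx
  have h2 : ∀ a, ι a * ((ι s * γ)⁻¹ * g) = (ι s * γ)⁻¹ * g * ι a := fun a => by
    have := hf a
    rw [show f a = _ from e a, map_mul, map_mul, map_inv, e'] at this
    rw [mul_assoc _ g, ← inv_mul_cancel_right (g * ι a) g, ← this]; group
  have h3 : (ι s * γ)⁻¹ * g ∈ N := hc (by rintro _ (rfl | rfl) <;> exact h2 _)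
  exact mul_inv_cancel_left (ι s * γ) g ▸ mul_mem (mul_mem (hA ⟨s, rfl⟩) hγ) h3

theorem realizable_H (hp : p ≠ 2) (hp7 : p ≠ 7) {F : FusionSystem (⊤ : Subgroup (H p))}
    (hF : F.IsSaturated p) : F.IsRealizable p := by
  have hok := dat_ok hp hF
  by_cases h2 : ∃ u ∈ (dat F).E, ∃ v ∈ (dat F).E, om u v ≠ 0
  swap
  · exact realizable_of_par hp hF (by simpa using h2)
  by_cases h3 : (dat F).Three
  swap
  · obtain ⟨g, A, b, hA, h⟩ := hok.two hp h2 h3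
    obtain ⟨G, _, _, ι, B, hι, hB, hG, h'⟩ := realM hp A hA b
    exact realizable_of_tw hp hF hι hB hG (Dt.eq_tw ((h.eq h').trans (Dt.tw_one _).symm))
  have key : ∀ (G : Type) [Group G] [Finite G] (a b : G), Dat p a b → Tri a b → p = 5 ∨ p = 13 →
      F.IsRealizable p := fun G _ _ a b hd ht hp' => by
    obtain ⟨ι, hι, h1, h2⟩ := exists_hom hp hd.pa hd.pb hd.ne hd.ca hd.cb
    obtain ⟨g, e⟩ := hok.uniq hp' h3 (datG_ok hp hι le_top hd.syl) (three_of_tri hp h1 h2 ht.top)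
    exact realizable_of_tw hp hF hι le_top hd.syl e
  rcases hok.three hp hp7 h3 with rfl | rfl | rfl
  · obtain ⟨G, _, _, N, a, b, hN, hN', hd, ht, hc⟩ := real3
    obtain ⟨ι, hι, h1, h2⟩ := exists_hom hp hd.pa hd.pb hd.ne hd.ca hd.cb
    have hA : ι.range ≤ N := by
      rw [range_eq hp, h1, h2, closure_le]
      rintro _ (rfl | rfl)
      exacts [a.2, b.2]
    have t1 := three_of_tri hp h1 h2 ht
    have t2 : (datG ι ⊤).Three := by
      obtain ⟨u, hu, v, hv, w, hw, h⟩ := t1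
      have : ∀ u ∈ (datG ι N).E, u ∈ (datG ι ⊤).E := fun u ⟨h0, c, w, γ, _, e⟩ => ⟨h0, c, w, γ, trivial, e⟩
      exact ⟨u, this u hu, v, this v hv, w, this w hw, h⟩
    rcases hok.uniq3 h3 (datG_ok hp hι hA hd.syl) t1 (datG_ok hp hι le_top hd.syl) t2
      (datG_lt hp hN' hι hA hd.syl (h1 ▸ h2 ▸ hc)) with ⟨g, e⟩ | ⟨g, e⟩
    · exact realizable_of_tw hp hF hι hA hd.syl e
    · exact realizable_of_tw hp hF hι le_top hd.syl e
  · obtain ⟨G, _, _, a, b, hd, ht⟩ := real5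
    exact key G a b hd ht (Or.inl rfl)
  · obtain ⟨G, _, _, a, b, hd, ht⟩ := real13
    exact key G a b hd ht (Or.inr rfl)

theorem exists_equiv (hp : p ≠ 2) [Finite G] (hE : IsExtraspecial p G) (hcard : Nat.card G = p ^ 3)
    (hexp : Monoid.exponent G = p) : Nonempty (H p ≃* G) := by
  obtain ⟨a, b, hab⟩ : ∃ a b : G, ⁅a, b⁆ ≠ 1 := by
    by_contra! h
    have : center G = ⊤ := eq_top_iff.2 fun a _ => mem_center_iff.2 fun b =>
      (commutatorElement_eq_one_iff_mul_comm.1 (h b a))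
    have h1 := hE.2
    rw [this, card_top, hcard] at h1
    have := (Fact.out : p.Prime).one_lt
    have h2 : p ^ 1 < p ^ 3 := Nat.pow_lt_pow_right this (by norm_num)
    rw [pow_one] at h2
    omega
  have hz : ⁅a, b⁆ ∈ center G := hE.1.2.2 ▸ commutator_mem_commutator (mem_top a) (mem_top b)
  have hpw : ∀ g : G, g ^ p = 1 := fun g => hexp ▸ Monoid.pow_exponent_eq_one g
  obtain ⟨ι, hι, -⟩ := exists_hom hp (hpw a) (hpw b) hab (mem_center_iff.1 hz a) (mem_center_iff.1 hz b)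
  exact ⟨MulEquiv.ofBijective ι (hι.bijective_of_nat_card_le (by rw [hcard, H.card]))⟩

end CL.RV
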